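import Mathlib

set_option autoImplicit false

/-!
# Fox calculus over a coset graph, in an extension with abelian kernel

`π : E →* G` is a homomorphism, `ψ : E → V` is additive on the kernel of `π` and turns conjugation into the
action `ρ` of `G` on `V`.  `K` is a subgroup of `E` meeting the kernel trivially and covering the subgroup `H`
of `G`.  For an element `e` of `E` over `H` we write `β e` for the value of `ψ` on the kernel part of `e`.
Given coset representatives `t c` and a coset table `act`, the values `dl c l` on the edges of the coset graph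
satisfy one linear equation for every word that is trivial in `G` and every coset (`fox_rel`).
-/

namespace Cfsg.Agent.Lib.Helper3.H2M23

section Ext

variable {E G V L : Type*} [Group E] [Group G] [AddCommGroup V]

/-- the data of an extension with a partial complement -/
structure ExtData (E G V : Type*) [Group E] [Group G] [AddCommGroup V] where
  /-- the projection -/
  π : E →* G
  /-- the action on the module -/
  ρ : G →* AddMonoid.End V
  /-- the coordinate map on the kernel (junk outside) -/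
  ψ : E → V
  ψ_mul : ∀ a b, π a = 1 → π b = 1 → ψ (a * b) = ψ a + ψ b
  ψ_conj : ∀ e n, π n = 1 → ψ (e * n * e⁻¹) = ρ (π e) (ψ n)
  /-- the subgroup of `G` that is split -/
  H : Subgroup G
  /-- the partial complement -/
  K : Subgroup E
  hK : ∀ k ∈ K, π k = 1 → k = 1
  hKH : ∀ e, π e ∈ H → ∃ k ∈ K, π k = π e

namespace ExtData

variable (D : ExtData E G V)

theorem ψ_one : D.ψ 1 = 0 := by
  have h := D.ψ_mul 1 1 (map_one _) (map_one _)
  rw [mul_one] at h
  exact left_eq_add.mp h

theorem ψ_inv (n : E) (hn : D.π n = 1) : D.ψ n⁻¹ = -D.ψ n := by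
  have h := D.ψ_mul n n⁻¹ hn (by rw [map_inv, hn, inv_one])
  rw [mul_inv_cancel, D.ψ_one] at h
  exact (neg_eq_of_add_eq_zero_right h.symm).symm

open Classical in
/-- the element of `K` below `e` -/
noncomputable def kof (e : E) : E := if h : D.π e ∈ D.H then Classical.choose (D.hKH e h) else 1

theorem kof_mem (e : E) : D.kof e ∈ D.K := by
  unfold kof
  split_ifs with h
  · exact (Classical.choose_spec (D.hKH e h)).1
  · exact D.K.one_mem

theorem π_kof {e : E} (h : D.π e ∈ D.H) : D.π (D.kof e) = D.π e := by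
  unfold kof
  rw [dif_pos h]
  exact (Classical.choose_spec (D.hKH e h)).2

theorem K_inj {k k' : E} (hk : k ∈ D.K) (hk' : k' ∈ D.K) (h : D.π k = D.π k') : k = k' := by
  have h1 : k * k'⁻¹ = 1 := D.hK _ (D.K.mul_mem hk (D.K.inv_mem hk')) (by rw [map_mul, map_inv, h, mul_inv_cancel])
  exact mul_inv_eq_one.mp h1

theorem kof_mul {u v : E} (hu : D.π u ∈ D.H) (hv : D.π v ∈ D.H) : D.kof (u * v) = D.kof u * D.kof v := by
  have huv : D.π (u * v) ∈ D.H := by rw [map_mul]; exact D.H.mul_mem hu hv
  apply D.K_inj (D.kof_mem _) (D.K.mul_mem (D.kof_mem _) (D.kof_mem _))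
  rw [D.π_kof huv, map_mul, map_mul, D.π_kof hu, D.π_kof hv]

/-- the value of `ψ` on the kernel part -/
noncomputable def β (e : E) : V := D.ψ (e * (D.kof e)⁻¹)

theorem π_npart {e : E} (h : D.π e ∈ D.H) : D.π (e * (D.kof e)⁻¹) = 1 := by
  rw [map_mul, map_inv, D.π_kof h, mul_inv_cancel]

theorem β_mul {u v : E} (hu : D.π u ∈ D.H) (hv : D.π v ∈ D.H) :
    D.β (u * v) = D.β u + D.ρ (D.π u) (D.β v) := by
  unfold β
  rw [D.kof_mul hu hv]
  have e : u * v * (D.kof u * D.kof v)⁻¹ = (u * (v * (D.kof v)⁻¹) * u⁻¹) * (u * (D.kof u)⁻¹) := by group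
  rw [e, D.ψ_mul _ _ _ (D.π_npart hu), D.ψ_conj _ _ (D.π_npart hv), add_comm]
  rw [map_mul, map_mul, D.π_npart hv, mul_one, map_inv, mul_inv_cancel]

theorem kof_of_ker {n : E} (hn : D.π n = 1) : D.kof n = 1 := by
  have h : D.π n ∈ D.H := by rw [hn]; exact D.H.one_mem
  apply D.K_inj (D.kof_mem _) D.K.one_mem
  rw [D.π_kof h, hn, map_one]

theorem β_ker {n : E} (hn : D.π n = 1) : D.β n = D.ψ n := by
  unfold β
  rw [D.kof_of_ker hn, inv_one, mul_one]

theorem β_one : D.β 1 = 0 := by
  rw [D.β_ker (map_one _), D.ψ_one]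

theorem ρ_inv_apply (g : G) (v : V) : D.ρ g⁻¹ (D.ρ g v) = v := by
  show (D.ρ g⁻¹ * D.ρ g) v = v
  rw [← map_mul, inv_mul_cancel, map_one, AddMonoid.End.one_apply]

theorem ρ_apply_inv (g : G) (v : V) : D.ρ g (D.ρ g⁻¹ v) = v := by
  show (D.ρ g * D.ρ g⁻¹) v = v
  rw [← map_mul, mul_inv_cancel, map_one, AddMonoid.End.one_apply]

theorem β_inv {u : E} (hu : D.π u ∈ D.H) : D.β u⁻¹ = -(D.ρ (D.π u)⁻¹ (D.β u)) := by
  have hu' : D.π u⁻¹ ∈ D.H := by rw [map_inv]; exact D.H.inv_mem hu
  have h := D.β_mul hu' hu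
  rw [inv_mul_cancel, D.β_one, map_inv] at h
  exact eq_neg_of_add_eq_zero_left h.symm

theorem ρ_mul_apply (g h : G) (v : V) : D.ρ (g * h) v = D.ρ g (D.ρ h v) := by
  rw [map_mul]; rfl

end ExtData

/-- the value of a word, for given values of the letters -/
def evL (gt : L → E) : List L → E
  | [] => 1
  | l :: w => gt l * evL gt w

theorem evL_append (gt : L → E) (u w : List L) : evL gt (u ++ w) = evL gt u * evL gt w := by
  induction u with
  | nil => simp [evL]
  | cons l u ih => simp [evL, ih, mul_assoc]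

/-- the Fox sum of a word for constant values `m` on the letters -/
noncomputable def foxc (D : ExtData E G V) (gt : L → E) (m : L → V) : List L → V
  | [] => 0
  | l :: w => m l + D.ρ (D.π (gt l)) (foxc D gt m w)

/-- modified lifts `gt' l = d l * gt l`, with `d l` in the kernel: the value of a word changes by an element of the
kernel whose coordinates are given by the constant Fox sum -/
theorem evL_modified (D : ExtData E G V) (gt gt' d : L → E) (hd : ∀ l, D.π (d l) = 1)
    (hgt : ∀ l, gt' l = d l * gt l) :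
    ∀ w : List L, ∃ x : E, D.π x = 1 ∧ evL gt' w = x * evL gt w ∧ D.ψ x = foxc D gt (fun l => D.ψ (d l)) w
  | [] => ⟨1, map_one _, by simp [evL], by simp [foxc, D.ψ_one]⟩
  | l :: w => by
      obtain ⟨x, hx1, hx2, hx3⟩ := evL_modified D gt gt' d hd hgt w
      refine ⟨d l * (gt l * x * (gt l)⁻¹), ?_, ?_, ?_⟩
      · rw [map_mul, hd, one_mul, map_mul, map_mul, hx1, mul_one, map_inv, mul_inv_cancel]
      · simp only [evL]; rw [hgt, hx2]; group
      · rw [D.ψ_mul _ _ (hd l) (by rw [map_mul, map_mul, hx1, mul_one, map_inv, mul_inv_cancel]),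
          D.ψ_conj _ _ hx1, hx3]
        rfl

/-- coset data: lifts `gt` of the letters, representatives `t` and the table `act` -/
structure CosetData (D : ExtData E G V) (L : Type*) where
  /-- the lifts of the letters -/
  gt : L → E
  /-- the number of cosets -/
  n : ℕ
  /-- the coset table -/
  act : ℕ → L → ℕ
  /-- the representatives -/
  t : ℕ → E
  act_lt : ∀ c < n, ∀ l, act c l < n
  hT : ∀ c < n, ∀ l, D.π (t c * gt l * (t (act c l))⁻¹) ∈ D.H

namespace CosetData

variable {D : ExtData E G V} (C : CosetData D L)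

/-- the value on an edge of the coset graph, transported to the base point -/
noncomputable def dl (c : ℕ) (l : L) : V :=
  D.ρ (D.π (C.t c))⁻¹ (D.β (C.t c * C.gt l * (C.t (C.act c l))⁻¹))

/-- the end point of a path -/
def walk (c : ℕ) : List L → ℕ
  | [] => c
  | l :: w => walk (C.act c l) w

/-- the value of a word -/
def ev : List L → E := evL C.gt

theorem ev_nil : C.ev [] = 1 := rfl
theorem ev_cons (l : L) (w : List L) : C.ev (l :: w) = C.gt l * C.ev w := rfl

/-- the Fox sum along a path -/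
noncomputable def fox (c : ℕ) : List L → V
  | [] => 0
  | l :: w => C.dl c l + D.ρ (D.π (C.gt l)) (fox (C.act c l) w)

theorem walk_lt : ∀ (w : List L) (c : ℕ), c < C.n → C.walk c w < C.n
  | [], c, hc => hc
  | l :: w, c, hc => walk_lt w _ (C.act_lt c hc l)

theorem fox_eq : ∀ (w : List L) (c : ℕ), c < C.n →
    D.π (C.t c * C.ev w * (C.t (C.walk c w))⁻¹) ∈ D.H ∧
      D.ρ (D.π (C.t c))⁻¹ (D.β (C.t c * C.ev w * (C.t (C.walk c w))⁻¹)) = C.fox c w
  | [], _, _ => by
      simp only [ev_nil, walk, fox, mul_one, mul_inv_cancel, map_one]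
      exact ⟨D.H.one_mem, by rw [D.β_one, map_zero]⟩
  | l :: w, c, hc => by
      obtain ⟨h1, h2⟩ := fox_eq w (C.act c l) (C.act_lt c hc l)
      have hu := C.hT c hc l
      have e : C.t c * C.ev (l :: w) * (C.t (C.walk c (l :: w)))⁻¹ =
          (C.t c * C.gt l * (C.t (C.act c l))⁻¹) *
            (C.t (C.act c l) * C.ev w * (C.t (C.walk (C.act c l) w))⁻¹) := by
        simp only [ev_cons, walk]; group
      rw [e]
      refine ⟨by rw [map_mul]; exact D.H.mul_mem hu h1, ?_⟩
      rw [D.β_mul hu h1, map_add]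
      simp only [fox]
      congr 1
      rw [← h2, ← D.ρ_mul_apply, ← D.ρ_mul_apply]
      congr 2
      simp only [map_mul, map_inv]; group

/-- the equation of a word that is trivial in `G`, at a coset -/
theorem fox_rel {r : List L} {c : ℕ} (hc : c < C.n) (hw : C.walk c r = c) (hr : D.π (C.ev r) = 1) :
    C.fox c r = D.ψ (C.ev r) := by
  obtain ⟨_, h2⟩ := C.fox_eq r c hc
  rw [hw] at h2
  have hk : D.π (C.t c * C.ev r * (C.t c)⁻¹) = 1 := by
    rw [map_mul, map_mul, hr, mul_one, map_inv, mul_inv_cancel]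
  rw [D.β_ker hk, D.ψ_conj _ _ hr, D.ρ_inv_apply] at h2
  exact h2.symm

theorem dl_tree {c : ℕ} {l : L} (h : C.t (C.act c l) = C.t c * C.gt l) : C.dl c l = 0 := by
  unfold dl
  rw [h, mul_inv_cancel, D.β_one, map_zero]

theorem dl_inv {c : ℕ} {l l' : L} (hc : c < C.n) (hl : C.gt l' = (C.gt l)⁻¹) (hact : C.act (C.act c l') l = c) :
    C.dl c l' = -(D.ρ (D.π (C.gt l))⁻¹ (C.dl (C.act c l') l)) := by
  have hu := C.hT (C.act c l') (C.act_lt c hc l') l
  rw [hact] at hu
  have e : C.t c * C.gt l' * (C.t (C.act c l'))⁻¹ = (C.t (C.act c l') * C.gt l * (C.t c)⁻¹)⁻¹ := by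
    rw [hl]; group
  unfold dl
  rw [hact, e, D.β_inv hu, map_neg]
  congr 1
  rw [← D.ρ_mul_apply, ← D.ρ_mul_apply]
  congr 2
  simp only [map_mul, map_inv]; group

end CosetData

end Ext

end Cfsg.Agent.Lib.Helper3.H2M23
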